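import Mathlib
import Cfsg.Agent.Lib.Helper22.C3L.Defs

set_option autoImplicit false
set_option linter.unusedVariables false
set_option linter.unusedSectionVars false

/-!
# Project C3O (leader helper10) -> S5701 : `N(K) ∩ Ω = Ω_{n/r}(q^r).r`-type subgroups are maximal in `Ω_n^±(q)`
(`q` odd, `r` prime, `dim_K V = n / r ≥ 4`)

Abstract setting (as in C3L / C3S; the C3L `Defs` are imported: `Kl`, `kmul`, `NotNorm`): `V` a vector space over the
field `K`, `K` a finite extension of `F`, `B` a non-degenerate SYMMETRIC `K`-bilinear form on `V`, `f = tf F B = Tr_{K/F} ∘ B`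
(the polar form of `Q = Tr ∘ Q_K`, `Q_K x = B x x / 2`); the groups live in `V ≃ₗ[F] V`.
-/

namespace Cfsg.Agent.Lib.Helper10.C3O

open Module Cfsg.Agent.Lib.Helper22.C3L

variable {F K V : Type*} [Field F] [Field K] [Algebra F K] [AddCommGroup V] [Module F V] [Module K V]
  [IsScalarTower F K V]

variable (F) in
/-- the `F`-bilinear form `f = Tr_{K/F} ∘ B` -/
noncomputable def tf (B : V →ₗ[K] V →ₗ[K] K) (x y : V) : F := Algebra.trace F K (B x y)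

theorem tf_def (B : V →ₗ[K] V →ₗ[K] K) (x y : V) : tf F B x y = Algebra.trace F K (B x y) := rfl

variable (F) in
/-- the `K`-linear isometries of `B`, a subgroup of `GL_F(V)` -/
def OB (B : V →ₗ[K] V →ₗ[K] K) : Subgroup (V ≃ₗ[F] V) where
  carrier := {g | (∀ (a : K) (x : V), g (a • x) = a • g x) ∧ ∀ x y : V, B (g x) (g y) = B x y}
  mul_mem' := by
    rintro g h ⟨hg, hg1⟩ ⟨hh, hh1⟩
    refine ⟨fun a x => ?_, fun x y => ?_⟩
    · rw [LinearEquiv.mul_apply, LinearEquiv.mul_apply, hh, hg]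
    · rw [LinearEquiv.mul_apply, LinearEquiv.mul_apply, hg1, hh1]
  one_mem' := ⟨fun a x => rfl, fun x y => rfl⟩
  inv_mem' := by
    rintro g ⟨hg, hg1⟩
    refine ⟨fun a x => ?_, fun x y => ?_⟩
    · apply g.injective
      rw [hg]
      simp
    · rw [← hg1]
      simp

theorem mem_OB {B : V →ₗ[K] V →ₗ[K] K} {g : V ≃ₗ[F] V} :
    g ∈ OB F B ↔ (∀ (a : K) (x : V), g (a • x) = a • g x) ∧ ∀ x y : V, B (g x) (g y) = B x y := Iff.rfl

variable (F) in
/-- `Ω(B)` : the commutator subgroup of the group of `K`-linear isometries of `B` -/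
def OmB (B : V →ₗ[K] V →ₗ[K] K) : Subgroup (V ≃ₗ[F] V) := ⁅OB F B, OB F B⁆

theorem OmB_le_OB (B : V →ₗ[K] V →ₗ[K] K) : OmB F B ≤ OB F B :=
  Subgroup.commutator_le.mpr fun g₁ h₁ g₂ h₂ =>
    (OB F B).mul_mem ((OB F B).mul_mem ((OB F B).mul_mem h₁ h₂) ((OB F B).inv_mem h₁)) ((OB F B).inv_mem h₂)

variable (F) in
/-- the `F`-linear isometries of `f = Tr ∘ B` -/
def Of (B : V →ₗ[K] V →ₗ[K] K) : Subgroup (V ≃ₗ[F] V) where
  carrier := {g | ∀ x y : V, tf F B (g x) (g y) = tf F B x y}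
  mul_mem' := by
    rintro g h hg hh x y
    rw [LinearEquiv.mul_apply, LinearEquiv.mul_apply, hg, hh]
  one_mem' := fun x y => rfl
  inv_mem' := by
    rintro g hg x y
    rw [← hg]
    simp

theorem mem_Of {B : V →ₗ[K] V →ₗ[K] K} {g : V ≃ₗ[F] V} :
    g ∈ Of F B ↔ ∀ x y : V, tf F B (g x) (g y) = tf F B x y := Iff.rfl

theorem OB_le_Of (B : V →ₗ[K] V →ₗ[K] K) : OB F B ≤ Of F B := by
  intro g hg x y
  rw [tf_def, tf_def, hg.2]

theorem OmB_le_Of (B : V →ₗ[K] V →ₗ[K] K) : OmB F B ≤ Of F B :=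
  (OmB_le_OB B).trans (OB_le_Of B)

/-- the `K`-Siegel transformation `ρ^K_{u,y}` (`B u u = 0`, `B u y = 0`), as a function -/
noncomputable def ksg (B : V →ₗ[K] V →ₗ[K] K) (u y x : V) : V :=
  x + B x u • y - B x y • u - (B y y / 2 * B x u) • u

variable (F) in
/-- the `F`-Siegel transformation `ρ_{z,w}` of `f = Tr ∘ B` (`f z z = 0`, `f z w = 0`), as a function -/
noncomputable def fsg (B : V →ₗ[K] V →ₗ[K] K) (z w x : V) : V :=
  x + tf F B x z • w - tf F B x w • z - (tf F B w w / 2 * tf F B x z) • z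

/-- `H` contains the `F`-Siegel transformation `ρ_{z,w}` -/
def HasF (B : V →ₗ[K] V →ₗ[K] K) (H : Subgroup (V ≃ₗ[F] V)) (z w : V) : Prop :=
  ∃ g ∈ H, ∀ x : V, g x = fsg F B z w x

/-- the "linear part" of `H ∩ R_ℓ` at the singular `K`-line `ℓ = K v`: the `F`-linear maps `θ : V → K` such that some
`g ∈ H` fixes `K v` pointwise and is `x ↦ x + θ x • v` on `v^⊥` (only the restriction of `θ` to `v^⊥` matters) -/
def LO (B : V →ₗ[K] V →ₗ[K] K) (H : Subgroup (V ≃ₗ[F] V)) (v : V) : Set (V →ₗ[F] K) :=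
  {θ | ∃ g ∈ H, (∀ a : K, g (a • v) = a • v) ∧ ∀ x : V, B x v = 0 → g x = x + θ x • v}

/-- a configuration for Step B: `h ∈ H`, two non-zero `K`-singular vectors `u₁, u₂` with `h (K u₂) ⊄ K u₁` -/
def Conf (B : V →ₗ[K] V →ₗ[K] K) (H : Subgroup (V ≃ₗ[F] V)) (h : V ≃ₗ[F] V) (u₁ u₂ : V) : Prop :=
  h ∈ H ∧ u₁ ≠ 0 ∧ u₂ ≠ 0 ∧ B u₁ u₁ = 0 ∧ B u₂ u₂ = 0 ∧
    ¬ (Kl F K u₂).map (h : V →ₗ[F] V) ≤ Kl F K u₁

variable (F K) in
/-- the `F`-dimension of `K u₁ ∩ h (K u₂)` -/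
noncomputable def dl (h : V ≃ₗ[F] V) (u₁ u₂ : V) : ℕ :=
  finrank F ↥(Kl F K u₁ ⊓ (Kl F K u₂).map (h : V →ₗ[F] V))

/-- the output of Step B: some `g ∈ H` stabilises a singular `K`-line `K v` and does not normalise `K` on it -/
def StepBOut (B : V →ₗ[K] V →ₗ[K] K) (H : Subgroup (V ≃ₗ[F] V)) : Prop :=
  ∃ g ∈ H, ∃ v : V, v ≠ 0 ∧ B v v = 0 ∧ (∀ a : K, ∃ b : K, g (a • v) = b • v) ∧
    ∃ a : K, ∀ b : K, ∃ c : K, g (a • c • v) ≠ b • g (c • v)

/-- `H` contains the `F`-Siegel transformations `ρ_{z,y}` for all `z` in the singular `K`-line `K v` and all `y ∈ (K v)^⊥` -/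
def LineFull (B : V →ₗ[K] V →ₗ[K] K) (H : Subgroup (V ≃ₗ[F] V)) (v : V) : Prop :=
  ∀ z ∈ Kl F K v, ∀ y : V, B y v = 0 → HasF B H z y

end Cfsg.Agent.Lib.Helper10.C3O
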