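import Mathlib
import Cfsg.Agent.Lib.Helper22.C3L.Defs
import Cfsg.Agent.Lib.Helper10.C3O.Defs
import Cfsg.Agent.Lib.Helper27.C3OSTEPBcore
import Cfsg.Agent.Lib.Helper20.C3OSTEPA
import Cfsg.Agent.Lib.Helper1.C3OBGOOD
import Cfsg.Agent.Lib.Helper20.C3OBBAD
import Cfsg.Agent.Lib.Helper10.C3OSTEPC
import Cfsg.Agent.Lib.helper4.C3ORL
import Cfsg.Agent.Lib.Helper18.C3OALLL
import Cfsg.Agent.Lib.helper2.C3ODSING
import Cfsg.Agent.Lib.helper4.C3ODALL

set_option autoImplicit false
set_option linter.unusedVariables false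
set_option linter.unusedSectionVars false

namespace Cfsg.Agent.Lib.Helper10.C3O

open Module Cfsg.Agent.Lib.Helper22.C3L

variable {F K V : Type*} [Field F] [Field K] [Algebra F K] [AddCommGroup V] [Module F V] [Module K V]
  [IsScalarTower F K V]

/-- **Theorem T_O** (abstract): `F ⊆ K` finite fields of odd characteristic, `[K:F]` prime, `B` a non-degenerate symmetric `K`-bilinear form on `V`, `dim_K V ≥ 4`, `f = Tr ∘ B`.
A group `H` of isometries of `f` which contains `Ω(B)` (the commutator subgroup of the `K`-linear isometries of `B`) and does not normalise `K` contains all Siegel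
transformations of `f`. -/
theorem main_abs [Finite K] [FiniteDimensional K V] (h2 : (2 : F) ≠ 0) (hr : (finrank F K).Prime)
    (B : V →ₗ[K] V →ₗ[K] K) (hBs : ∀ x y, B x y = B y x) (hBn : ∀ x, x ≠ 0 → ∃ y, B x y ≠ 0)
    (hd : 4 ≤ finrank K V) (H : Subgroup (V ≃ₗ[F] V)) (hH : H ≤ Of F B) (hC : OmB F B ≤ H)
    (hN : NotNorm K H) : ∀ z : V, tf F B z z = 0 → ∀ y : V, tf F B z y = 0 → HasF B H z y := by
  have hB : StepBOut B H :=
    c3ostepb_core B H (stepA_o h2 B hBs hBn hd H hH hC hN)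
      (fun hc hmax hD _ ha ha' hap => b_good h2 hr B hBs hBn H hH hC hc hmax hD ha ha' hap)
      (fun hc hmax hD hbad => b_bad h2 B hBs hBn hd H hH hC hc hmax hD hbad)
  obtain ⟨g, hg, v, hv, hv0, hgv, hgn⟩ := hB
  have hO := stepC_o h2 hr B hBs hBn H hH hC hg hv hv0 hgv hgn
  have h1 := rl_mem h2 B hBs hBn (by omega) H hH hC hv hv0 hO
  have hall := all_lines h2 B hBs hBn hd H hC hv hv0 h1
  have hs := d_sing h2 B hBs hBn (by omega) H hH hall
  exact d_all h2 B hBs hBn (by omega) H hH hs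

end Cfsg.Agent.Lib.Helper10.C3O
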