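import Mathlib
import Cfsg.Prelude.Def_GeometricClasses
import Cfsg.Statements.S5701
import Cfsg.Agent.Lib.Helper22.C3L.Defs
import Cfsg.Agent.Lib.Helper22.C3L.Transfer
import Cfsg.Agent.Lib.Helper20.C3DESC
import Cfsg.Agent.Lib.Helper28.OGenQ
import Cfsg.Agent.Lib.Helper28.OBundle
import Cfsg.Agent.Lib.Helper28.OEven
import Cfsg.Agent.Lib.Helper10.C3O.Defs
import Cfsg.Agent.Lib.helper4.C3OSTRICT
import Cfsg.Agent.Lib.helper2.C3OFSG
import Cfsg.Agent.Lib.Helper10.C3O.MainAbs

set_option autoImplicit false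
set_option linter.unusedVariables false
set_option linter.unusedSectionVars false
set_option linter.style.haveILetI false

/-! # Project C3O : transfer between `GL (Fin n) F` and `(Fin n → F) ≃ₗ[F] (Fin n → F)`, and the final statement S5701 -/

namespace Cfsg.Agent.Lib.Helper10.C3O

open Cfsg Cfsg.Geo Module Cfsg.Agent.Lib.Helper22.C3L
open Cfsg.Agent.Lib.Helper28 Cfsg.Agent.Lib.Helper28.HForm Cfsg.Agent.Lib.Helper28.OGen
  Cfsg.Agent.Lib.Helper28.OMax Cfsg.Agent.Lib.Helper28.OQ Cfsg.Agent.Lib.Helper28.OMax2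
  Cfsg.Agent.Lib.Helper28.OEven Cfsg.Agent.Lib.Helper28.OGenQ Cfsg.Agent.Lib.Helper28.OBundle
open scoped MatrixGroups Matrix commutatorElement

variable {F : Type*} [Field F] {n : ℕ}

/-- abstract: `dim_K V ≥ 4` -/
theorem c3otr_four_le {F K V : Type*} [Field F] [Field K] [Algebra F K] [AddCommGroup V] [Module F V] [Module K V]
    [IsScalarTower F K V] [FiniteDimensional F K] [FiniteDimensional K V] {r n : ℕ} (h1 : finrank F K = r)
    (h2 : finrank F V = n) (hn : 13 ≤ n) (heven : Even n) (hnr : 3 * r ≤ n) (hr : r.Prime) :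
    4 ≤ finrank K V := by
  have h3 := Module.finrank_mul_finrank F K V
  rw [h1, h2] at h3
  by_contra hcon
  have h4 : finrank K V ≤ 3 := by omega
  have hr2 := hr.two_le
  interval_cases hd : finrank K V
  · omega
  · omega
  · omega
  · -- n = 3 r even, so r = 2, n = 6
    obtain ⟨k, hk⟩ := heven
    have : 2 ∣ r := by
      have h5 : 2 ∣ r * 3 := ⟨k, by omega⟩
      exact (Nat.Prime.dvd_mul Nat.prime_two).mp h5 |>.resolve_right (by decide)
    have : r = 2 := ((Nat.prime_dvd_prime_iff_eq Nat.prime_two hr).mp this).symm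
    omega

/-- `(2 : F) ≠ 0` for a field with an odd number of elements -/
theorem c3otr_two_ne [Fintype F] (hodd : Odd (Fintype.card F)) : (2 : F) ≠ 0 := by
  intro h2
  haveI : CharP F 2 := CharTwo.of_one_ne_zero_of_two_eq_zero one_ne_zero h2
  have hc : ringChar F = 2 := ringChar.eq F 2
  have := FiniteField.even_card_of_char_two hc
  rw [Nat.odd_iff] at hodd
  omega


open Cfsg.Agent.Lib.Helper27.ASC in
/-- the two facts about `N(K) ∩ Ω` that the final statement needs -/
theorem c3otr_all [Fintype F] (hodd : Odd (Fintype.card F)) {r : ℕ} (hr : r.Prime) (hn : 13 ≤ n)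
    (heven : Even n) (hnr : 3 * r ≤ n) (Q : (Fin n → F) → F) (hQ : IsNondegenerateQuadraticForm Q)
    (K : Subalgebra F (Matrix (Fin n) (Fin n) F)) (hK : IsFieldSubalgebra r K)
    (hsa : IsSelfAdjointFor (QuadraticMap.polar Q) K) :
    (∀ M : Subgroup (GL (Fin n) F), subalgebraNormalizer K ⊓ omegaGL Q ≤ M → M ≤ omegaGL Q →
        ¬ M ≤ subalgebraNormalizer K → omegaGL Q ≤ M) ∧
      (∃ g : GL (Fin n) F, g ∈ omegaGL Q ∧ g ∉ subalgebraNormalizer K) := by
  classical
  have h2F : (2 : F) ≠ 0 := c3otr_two_ne hodd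
  have hq : QF Q (QuadraticMap.polar Q) := qf_unb Q hQ
  have hG : SgGroupQ Q (QuadraticMap.polar Q) (omegaGL Q) :=
    sgGroupQ_quad (by omega) (bundle Q hQ) (bundle_nondeg Q hQ)
  -- `Q x = polar Q x x / 2`
  have hQpol : ∀ x : Fin n → F, QuadraticMap.polar Q x x = 2 * Q x := by
    intro x
    have h1 := hq.polar x x
    have h3 : x + x = (2 : F) • x := by rw [two_smul]
    rw [h3, hq.smul] at h1
    linear_combination -h1
  have hQ0 : ∀ x : Fin n → F, Q x = 0 ↔ QuadraticMap.polar Q x x = 0 := by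
    intro x
    rw [hQpol]
    constructor
    · intro h; rw [h, mul_zero]
    · intro h
      rcases mul_eq_zero.mp h with h | h
      · exact absurd h h2F
      · exact h
  obtain ⟨fK, hmat_mul, hmat_add, hmat_one, hmat_zero⟩ : ∃ fK : Field (KK K),
      (∀ a b : KK K, (a * b).mat = a.mat * b.mat) ∧ (∀ a b : KK K, (a + b).mat = a.mat + b.mat) ∧
      (1 : KK K).mat = 1 ∧ (0 : KK K).mat = 0 :=
    ⟨(asgclif_isField K hK hr.pos).toField, fun _ _ => rfl, fun _ _ => rfl, rfl, rfl⟩
  have hmat_mem : ∀ a : KK K, a.mat ∈ K := fun a => (show ↥K from a).2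
  have hmat_inj : ∀ a b : KK K, a.mat = b.mat → a = b := fun a b h => Subtype.ext h
  have hmat_surj : ∀ k ∈ K, ∃ a : KK K, a.mat = k := fun k hk => ⟨(show KK K from (⟨k, hk⟩ : ↥K)), rfl⟩
  let i : F →+* KK K :=
    { toFun := fun c => (show KK K from (algebraMap F ↥K c))
      map_one' := hmat_inj _ _ (by rw [hmat_one]; exact congrArg Subtype.val (map_one (algebraMap F ↥K)))
      map_mul' := fun a b => hmat_inj _ _ (by
        rw [hmat_mul]; exact congrArg Subtype.val (map_mul (algebraMap F ↥K) a b))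
      map_zero' := hmat_inj _ _ (by rw [hmat_zero]; exact congrArg Subtype.val (map_zero (algebraMap F ↥K)))
      map_add' := fun a b => hmat_inj _ _ (by
        rw [hmat_add]; exact congrArg Subtype.val (map_add (algebraMap F ↥K) a b)) }
  letI aK : Algebra F (KK K) := RingHom.toAlgebra i
  have hi : ∀ c : F, (i c).mat = c • (1 : Matrix (Fin n) (Fin n) F) := fun c => by
    show ((algebraMap F ↥K c : ↥K) : Matrix (Fin n) (Fin n) F) = _
    rw [Subalgebra.coe_algebraMap, Algebra.algebraMap_eq_smul_one]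
  let ρ : KK K →+* Module.End F (Fin n → F) :=
    { toFun := fun k => Matrix.toLin' k.mat
      map_one' := by rw [hmat_one, Matrix.toLin'_one]; rfl
      map_mul' := fun a b => by rw [hmat_mul, Matrix.toLin'_mul]; rfl
      map_zero' := by rw [hmat_zero, map_zero]
      map_add' := fun a b => by rw [hmat_add, map_add] }
  letI mK : Module (KK K) (Fin n → F) := Module.compHom (Fin n → F) ρ
  have hsm : ∀ (k : KK K) (x : Fin n → F), k • x = k.mat *ᵥ x := fun _ _ => rfl
  haveI : IsScalarTower F (KK K) (Fin n → F) := ⟨fun c k x => by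
    rw [hsm, hsm, Algebra.smul_def, hmat_mul]
    show ((i c).mat * k.mat) *ᵥ x = _
    rw [hi, Matrix.smul_mul, Matrix.one_mul, Matrix.smul_mulVec]⟩
  haveI : Finite (KK K) := (inferInstance : Finite ↥K)
  haveI : FiniteDimensional (KK K) (Fin n → F) := Module.Finite.of_finite
  haveI : FiniteDimensional F (KK K) := Module.Finite.of_finite
  have hfr : finrank F (KK K) = r := by
    rw [← hK.finrank_eq]
    let e : KK K ≃ₗ[F] ↥K :=
      { toFun := fun k => (show ↥K from k)
        invFun := fun k => (show KK K from k)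
        left_inv := fun _ => rfl
        right_inv := fun _ => rfl
        map_add' := fun a b => Subtype.ext (hmat_add a b)
        map_smul' := fun c k => by
          apply Subtype.ext
          show (c • k).mat = c • k.mat
          rw [Algebra.smul_def, hmat_mul]
          show (i c).mat * k.mat = _
          rw [hi, Matrix.smul_mul, Matrix.one_mul] }
    exact e.finrank_eq
  have hd : 4 ≤ finrank (KK K) (Fin n → F) :=
    c3otr_four_le hfr (Module.finrank_fin_fun F) hn heven hnr hr
  have hrK : (finrank F (KK K)).Prime := by rw [hfr]; exact hr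
  -- the `K`-bilinear form
  have hsaK : ∀ (k : KK K) (x y : Fin n → F), polB Q hQ (k • x) y = polB Q hQ x (k • y) := by
    intro k x y
    exact hsa k.mat (hmat_mem k) x y
  obtain ⟨B, hB, -, hBsym, -, -, -, hBnd⟩ :=
    Cfsg.Agent.Lib.Helper20.C3Desc.c3desc_exists_finite (K := KK K) (polB Q hQ) hsaK
  have hpol : ∀ x y : Fin n → F, QuadraticMap.polar Q x y = tf F B x y := fun x y => hB x y
  have hBs : ∀ x y, B x y = B y x := hBsym (fun x y => hq.sym.herm x y)
  have hBn : ∀ x : Fin n → F, x ≠ 0 → ∃ y, B x y ≠ 0 := by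
    apply hBnd
    intro x hx
    obtain ⟨-, y, hy⟩ := hQ.nondegenerate x hx
    exact ⟨y, hy⟩
  -- linear maps normalising / semilinear
  have hlin_mem : ∀ g : (Fin n → F) ≃ₗ[F] (Fin n → F), (∀ (a : KK K) (x : Fin n → F), g (a • x) = a • g x) →
      (glE n F).symm g ∈ subalgebraNormalizer K := by
    intro g hσ
    have hσ' : ∀ (b : KK K) (y : Fin n → F), g.symm (b • y) = b • g.symm y := by
      intro b y
      apply g.injective
      rw [hσ, LinearEquiv.apply_symm_apply, LinearEquiv.apply_symm_apply]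
    have h1 : ∀ a : KK K, ((glE n F).symm g : Matrix (Fin n) (Fin n) F) * a.mat *
        ((((glE n F).symm g)⁻¹ : GL (Fin n) F) : Matrix (Fin n) (Fin n) F) = a.mat := by
      intro a
      apply c3ltr_mat_ext
      intro x
      rw [c3ltr_mul_mul_mulVec, glE_inv_mulVec, glE_symm_mulVec, ← hsm, hσ, LinearEquiv.apply_symm_apply, hsm]
    have h2 : ∀ b : KK K, ((((glE n F).symm g)⁻¹ : GL (Fin n) F) : Matrix (Fin n) (Fin n) F) * b.mat *
        ((glE n F).symm g : Matrix (Fin n) (Fin n) F) = b.mat := by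
      intro b
      apply c3ltr_mat_ext
      intro x
      rw [c3ltr_mul_mul_mulVec, glE_inv_mulVec, glE_symm_mulVec, ← hsm, hσ', LinearEquiv.symm_apply_apply, hsm]
    intro k
    constructor
    · intro hk
      obtain ⟨a, rfl⟩ := hmat_surj k hk
      rw [h1]
      exact hmat_mem _
    · intro hk
      obtain ⟨b, hb⟩ := hmat_surj _ hk
      have h3 : ((((glE n F).symm g)⁻¹ : GL (Fin n) F) : Matrix (Fin n) (Fin n) F) *
          (((glE n F).symm g : Matrix (Fin n) (Fin n) F) * k *
            ((((glE n F).symm g)⁻¹ : GL (Fin n) F) : Matrix (Fin n) (Fin n) F)) *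
          ((glE n F).symm g : Matrix (Fin n) (Fin n) F) = b.mat := by
        rw [← hb]
        exact h2 b
      have h4 : k = b.mat := by
        rw [← h3]
        simp only [← mul_assoc, ← Units.val_mul, inv_mul_cancel, Units.val_one, one_mul]
        rw [mul_assoc, ← Units.val_mul, inv_mul_cancel, Units.val_one, mul_one]
      rw [h4]
      exact hmat_mem _
  have hmem_semi : ∀ g ∈ subalgebraNormalizer K, ∃ σ : KK K → KK K, ∀ (a : KK K) (x : Fin n → F),
      glE n F g (a • x) = σ a • glE n F g x := by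
    intro g hg
    have h1 : ∀ a : KK K, ∃ b : KK K, b.mat = (g : Matrix (Fin n) (Fin n) F) * a.mat *
        ((g⁻¹ : GL (Fin n) F) : Matrix (Fin n) (Fin n) F) := fun a => hmat_surj _ ((hg a.mat).mp (hmat_mem a))
    choose σ hσ using h1
    refine ⟨σ, fun a x => ?_⟩
    rw [glE_apply, glE_apply, hsm, hsm, hσ, c3ltr_mul_mul_mulVec, c3ltr_inv_mulVec]
  -- elements of `OB` are isometries of `Q`
  have hOB_iso : ∀ g : (Fin n → F) ≃ₗ[F] (Fin n → F), g ∈ OB F B →
      (glE n F).symm g ∈ isometryGroup F Q := by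
    intro g hg
    intro x _
    show Q ((((glE n F).symm g : GL (Fin n) F) : Matrix (Fin n) (Fin n) F) *ᵥ x) = Q x
    rw [glE_symm_mulVec]
    have h1 : QuadraticMap.polar Q (g x) (g x) = QuadraticMap.polar Q x x := by
      rw [hpol, hpol, tf_def, tf_def, hg.2]
    rw [hQpol, hQpol] at h1
    exact mul_left_cancel₀ h2F h1
  have hOmB_mem : ∀ g : (Fin n → F) ≃ₗ[F] (Fin n → F), g ∈ OmB F B →
      (glE n F).symm g ∈ subalgebraNormalizer K ⊓ omegaGL Q := by
    intro g hg
    refine ⟨hlin_mem g (OmB_le_OB B hg).1, ?_⟩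
    -- the commutator subgroup maps into the commutator subgroup
    have hle : OmB F B ≤ (omegaGL Q).map (glE n F).toMonoidHom := by
      apply Subgroup.commutator_le.mpr
      intro g₁ h₁ g₂ h₂
      refine ⟨⁅(glE n F).symm g₁, (glE n F).symm g₂⁆, ?_, ?_⟩
      · refine ⟨⁅(⟨(glE n F).symm g₁, hOB_iso g₁ h₁⟩ : isometryGroup F Q),
          (⟨(glE n F).symm g₂, hOB_iso g₂ h₂⟩ : isometryGroup F Q)⁆, ?_, ?_⟩
        · exact Subgroup.commutator_mem_commutator (Subgroup.mem_top _) (Subgroup.mem_top _)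
        · simp [commutatorElement_def]
      · show (glE n F) ⁅(glE n F).symm g₁, (glE n F).symm g₂⁆ = ⁅g₁, g₂⁆
        rw [map_commutatorElement, MulEquiv.apply_symm_apply, MulEquiv.apply_symm_apply]
    obtain ⟨t, ht, rfl⟩ := hle hg
    show (glE n F).symm ((glE n F) t) ∈ omegaGL Q
    rw [MulEquiv.symm_apply_apply]
    exact ht
  refine ⟨?_, ?_⟩
  · intro M hNM hMG hMN
    let H' : Subgroup ((Fin n → F) ≃ₗ[F] (Fin n → F)) := M.map (glE n F).toMonoidHom
    have hH' : ∀ g : (Fin n → F) ≃ₗ[F] (Fin n → F), g ∈ H' ↔ (glE n F).symm g ∈ M := by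
      intro g
      constructor
      · rintro ⟨h, hh, rfl⟩
        show (glE n F).symm (glE n F h) ∈ M
        rw [MulEquiv.symm_apply_apply]
        exact hh
      · intro h
        exact ⟨_, h, MulEquiv.apply_symm_apply _ _⟩
    have hHOf : H' ≤ Of F B := by
      rintro g ⟨t, ht, rfl⟩ x y
      show tf F B ((glE n F t) x) ((glE n F t) y) = tf F B x y
      rw [glE_apply, glE_apply, ← hpol, ← hpol]
      exact iso_f hq t (hG.iso t (hMG ht)) x y
    have hC : OmB F B ≤ H' := by
      intro g hg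
      rw [hH']
      exact hNM (hOmB_mem g hg)
    have hN : NotNorm (KK K) H' := by
      have key : ∀ h ∈ M, ∀ a : KK K, (h : Matrix (Fin n) (Fin n) F) * a.mat *
          ((h⁻¹ : GL (Fin n) F) : Matrix (Fin n) (Fin n) F) ∉ K → NotNorm (KK K) H' := by
        intro h hh a hna
        refine ⟨glE n F h, ⟨h, hh, rfl⟩, a, fun b => ?_⟩
        by_contra hcon
        push Not at hcon
        apply hna
        have : (h : Matrix (Fin n) (Fin n) F) * a.mat *
            ((h⁻¹ : GL (Fin n) F) : Matrix (Fin n) (Fin n) F) = b.mat := by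
          apply c3ltr_mat_ext
          intro x
          have h5 := hcon (((h⁻¹ : GL (Fin n) F) : Matrix (Fin n) (Fin n) F) *ᵥ x)
          rw [glE_apply, glE_apply, hsm, hsm, c3ltr_mulVec_inv] at h5
          rw [c3ltr_mul_mul_mulVec, h5]
        rw [this]
        exact hmat_mem _
      rw [SetLike.not_le_iff_exists] at hMN
      obtain ⟨h, hh, hhN⟩ := hMN
      have : ¬ ∀ k : Matrix (Fin n) (Fin n) F, k ∈ K ↔ (h : Matrix (Fin n) (Fin n) F) * k *
          ((h⁻¹ : GL (Fin n) F) : Matrix (Fin n) (Fin n) F) ∈ K := hhN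
      push Not at this
      obtain ⟨k, hk⟩ := this
      rcases hk with ⟨hk1, hk2⟩ | ⟨hk1, hk2⟩
      · obtain ⟨a, rfl⟩ := hmat_surj k hk1
        exact key h hh a hk2
      · obtain ⟨a, ha⟩ := hmat_surj _ hk2
        refine key h⁻¹ (M.inv_mem hh) a ?_
        rw [ha, inv_inv]
        have : ((h⁻¹ : GL (Fin n) F) : Matrix (Fin n) (Fin n) F) * ((h : Matrix (Fin n) (Fin n) F) * k *
            ((h⁻¹ : GL (Fin n) F) : Matrix (Fin n) (Fin n) F)) * (h : Matrix (Fin n) (Fin n) F) = k := by
          simp only [← mul_assoc, ← Units.val_mul, inv_mul_cancel, Units.val_one, one_mul]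
          rw [mul_assoc, ← Units.val_mul, inv_mul_cancel, Units.val_one, mul_one]
        rw [this]
        exact hk1
    have hall := main_abs h2F hrK B hBs hBn hd H' hHOf hC hN
    apply hG.gen M
    intro t u v c hu hv huv ht
    have hu0 : tf F B u u = 0 := by rw [← hpol]; exact (hQ0 u).mp hu
    have hv0 : tf F B v v = 0 := by rw [← hpol]; exact (hQ0 v).mp hv
    have hvu : QuadraticMap.polar Q v u = 0 := by rw [QuadraticMap.polar_comm]; exact huv
    have huv0 : tf F B u (c • v) = 0 := by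
      rw [← hpol, hq.sym.herm, RingEquiv.refl_apply, hq.sym.smul_left, hvu, mul_zero]
    obtain ⟨g, hgH, hgx⟩ := hall u hu0 (c • v) huv0
    have hgt : g = glE n F t := by
      apply LinearEquiv.ext
      intro x
      rw [hgx, fsg_lr B hBs hv0 c x, glE_apply, ht x, ← hpol, ← hpol]
      rfl
    rw [hH', hgt, MulEquiv.symm_apply_apply] at hgH
    exact hgH
  · obtain ⟨u, v, hu0, hv0, huv0, hns⟩ := o_strict h2F hrK.two_le B hBs hBn hd
    have hu : Q u = 0 := (hQ0 u).mpr (by rw [hpol]; exact hu0)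
    have hv : Q v = 0 := (hQ0 v).mpr (by rw [hpol]; exact hv0)
    have huv : QuadraticMap.polar Q u v = 0 := by rw [hpol]; exact huv0
    obtain ⟨t, ht⟩ := hG.ex u v 1 hu hv huv
    refine ⟨t, hG.sg t u v 1 hu hv huv ht, ?_⟩
    intro hmem
    obtain ⟨σ, hσ⟩ := hmem_semi t hmem
    refine hns (glE n F t) ?_ ⟨σ, hσ⟩
    intro x
    rw [glE_apply, ht x, ← hpol, ← hpol]
    rfl

/-- **S5701** -/
theorem c3o_s5701 : type_of% @Cfsg.CfsgFrozen.S5701 := by
  intro F _ _ n hn heven Q hQ hodd r hr hnr K hK hsa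
  obtain ⟨hmain, g₀, hg₀G, hg₀N⟩ := c3otr_all hodd hr hn heven hnr Q hQ K hK hsa
  refine ⟨?_, ?_⟩
  · refine lt_of_le_of_ne inf_le_right ?_
    intro heq
    apply hg₀N
    have : g₀ ∈ subalgebraNormalizer K ⊓ omegaGL Q := by rw [heq]; exact hg₀G
    exact this.1
  · intro M hNM hMG
    by_cases hMN : M ≤ subalgebraNormalizer K
    · left
      exact le_antisymm (le_inf hMN hMG) hNM
    · right
      exact le_antisymm hMG (hmain M hNM hMG hMN)

end Cfsg.Agent.Lib.Helper10.C3O
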